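import Cfsg.Agent.Goldschmidt.TwoBlock.Blocks
import Mathlib.GroupTheory.Focal

/-!
Two blocks are impossible: fusion in the Sylow subgroup respects them, against the focal subgroup theorem.
-/

set_option autoImplicit false
set_option linter.unusedSectionVars false
set_option linter.style.haveILetI false

namespace Cfsg.Lib.Goldschmidt

open Subgroup Cfsg.Lib.Components
open scoped commutatorElement
open Cfsg.Lib.Walter (IsComp Triv Oc)

universe u

variable {G : Type u} [Group G] [Finite G] {S : Sylow 2 G} {A Z H : Subgroup G}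

/-- An element of the Sylow subgroup fixes a nontrivial point of each subgroup of `A` it normalises. -/
theorem Min.exists_fixed (h : Min S A) {X : Subgroup G} (hX : X ≤ A) (hX1 : X ≠ ⊥) {s : G}
    (hs : s ∈ (S : Subgroup G)) (hn : s ∈ normalizer (X : Set G)) :
    ∃ x ∈ X, x ≠ 1 ∧ s * x = x * s := by
  haveI : Fact (Nat.Prime 2) := ⟨Nat.prime_two⟩
  letI : MulAction ↥(zpowers s) ↥X := MulAction.compHom ↥X (Walter.conjHom (zpowers s) X (zpowers_le.2 hn))
  have hsm : ∀ (g : zpowers s) (x : X), ((g • x : X) : G) = g * x * (g : G)⁻¹ := fun g x => rfl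
  have hP : IsPGroup 2 ↥(zpowers s) := S.2.to_le (zpowers_le.2 hs)
  have hdvd : 2 ∣ Nat.card X := by
    obtain ⟨m, hm⟩ := IsPGroup.iff_card.1 (S.2.to_le (hX.trans h.le))
    have : m ≠ 0 := fun e => hX1 (Subgroup.eq_bot_of_card_eq X (by rw [hm, e, pow_zero]))
    exact hm ▸ dvd_pow_self 2 this
  have h1 : (1 : X) ∈ MulAction.fixedPoints (zpowers s) X := fun g => Subtype.ext (by
    rw [hsm, coe_one, mul_one, mul_inv_cancel])
  obtain ⟨x, hx, hx1⟩ := hP.exists_fixed_point_of_prime_dvd_card_of_fixed_point X hdvd h1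
  refine ⟨x, x.2, fun e => hx1 (Subtype.ext e.symm), ?_⟩
  have := congrArg Subtype.val (hx ⟨s, mem_zpowers s⟩)
  rw [hsm] at this
  exact mul_inv_eq_iff_eq_mul.1 this

/-- A fully centralised conjugate in the Sylow subgroup. -/
theorem exists_centralised (S : Sylow 2 G) {v : G} (hv : v ∈ (S : Subgroup G)) :
    ∃ v' ∈ (S : Subgroup G), ∀ g₀ : G, ∀ P : Subgroup G, IsPGroup 2 P →
      P ≤ centralizer ({g₀ * v * g₀⁻¹} : Set G) →
      ∃ g : G, g * (g₀ * v * g₀⁻¹) * g⁻¹ = v' ∧ ∀ p ∈ P, g * p * g⁻¹ ∈ (S : Subgroup G) := by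
  haveI : Fact (Nat.Prime 2) := ⟨Nat.prime_two⟩
  set C := centralizer ({v} : Set G)
  have hvC : v ∈ C := mem_centralizer_singleton_iff.2 rfl
  have hv2 : IsPGroup 2 ((zpowers v).subgroupOf C) :=
    (S.2.to_le (zpowers_le.2 hv)).comap_subtype
  obtain ⟨T, hT⟩ := hv2.exists_le_sylow
  obtain ⟨R, hR⟩ := (T.2.map C.subtype).exists_le_sylow
  obtain ⟨k, hk⟩ := MulAction.exists_smul_eq G R S
  have hmap : ∀ r ∈ R, k * r * k⁻¹ ∈ (S : Subgroup G) := fun r hr => by
    rw [← hk, Sylow.coe_subgroup_smul]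
    exact ⟨r, hr, rfl⟩
  refine ⟨k * v * k⁻¹, hmap _ (hR ⟨⟨v, hvC⟩, hT (mem_zpowers v), rfl⟩), fun g₀ P hP hPC => ?_⟩
  set Q := P.map (MulAut.conj g₀⁻¹).toMonoidHom with hQ
  have hQC : Q ≤ C := by
    rintro _ ⟨p, hp, rfl⟩
    refine mem_centralizer_singleton_iff.2 ?_
    show g₀⁻¹ * p * g₀⁻¹⁻¹ * v = v * (g₀⁻¹ * p * g₀⁻¹⁻¹)
    calc g₀⁻¹ * p * g₀⁻¹⁻¹ * v = g₀⁻¹ * (p * (g₀ * v * g₀⁻¹)) * g₀ := by group
      _ = g₀⁻¹ * (g₀ * v * g₀⁻¹ * p) * g₀ := by rw [mem_centralizer_singleton_iff.1 (hPC hp)]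
      _ = _ := by group
  obtain ⟨T', hT'⟩ := ((hP.map (MulAut.conj g₀⁻¹).toMonoidHom).comap_subtype (K := C)).exists_le_sylow
  obtain ⟨c, hc⟩ := MulAction.exists_smul_eq C T' T
  refine ⟨k * c * g₀⁻¹, ?_, fun p hp => ?_⟩
  · rw [show k * c * g₀⁻¹ * (g₀ * v * g₀⁻¹) * (k * c * g₀⁻¹)⁻¹ = k * (c * v * (c : G)⁻¹) * k⁻¹ by group,
      mem_centralizer_singleton_iff.1 c.2, mul_inv_cancel_right]
  · rw [show k * c * g₀⁻¹ * p * (k * c * g₀⁻¹)⁻¹ = k * (c * (g₀⁻¹ * p * g₀⁻¹⁻¹) * (c : G)⁻¹) * k⁻¹ by group]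
    refine hmap _ (hR ?_)
    have hpQ : g₀⁻¹ * p * g₀⁻¹⁻¹ ∈ Q := ⟨p, hp, rfl⟩
    refine ⟨c * ⟨_, hQC hpQ⟩ * c⁻¹, ?_, rfl⟩
    rw [← hc, Sylow.coe_subgroup_smul]
    exact ⟨⟨_, hQC hpQ⟩, hT' hpQ, rfl⟩

namespace Blocks

variable (B : Blocks A Z H) (h : Min S A)
include B h

/-- `O(C(d))` and the moved components of `C(d)` fix the blocks. -/
theorem layer_fix (hA : Local A) {d x : G} (hd : d ∈ A)
    (hx : x ∈ Oc d ⊔ ⨆ L : {L : Subgroup G // Moved A d L}, (L : Subgroup G))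
    (hxN : x ∈ normalizer (A : Set G)) : Z.map (MulAut.conj x).toMonoidHom = Z := by
  haveI : Fact (Nat.Prime 2) := ⟨Nat.prime_two⟩
  set M := Oc d ⊔ ⨆ L : {L : Subgroup G // Moved A d L}, (L : Subgroup G) with hM
  set C := centralizer ({d} : Set G)
  have hMC : M ≤ C := sup_le (PTerminal.core_le _) (iSup_le fun L => L.2.2.2.1.1)
  have hAC : A ≤ C := h.le_cent hd
  by_cases hex : ∃ L, Moved A d L
  · obtain ⟨L, hL⟩ := hex
    have hMn : M ≤ normalizer (L : Set G) := sup_le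
      ((PTerminal.core_le_cent hL.2.2.1.1).trans (PTerminal.cent_le_normalizer hL.2.2.1))
      (iSup_le fun L' => PTerminal.pcompOf_le_normalizer hL.2.2.1 L'.2.2.2.1)
    have hxd : x * d * x⁻¹ = d := by
      rw [mem_centralizer_singleton_iff.1 (hMC hx), mul_inv_cancel_right]
    have hfix : (ZA A d L).map (MulAut.conj x).toMonoidHom = ZA A d L := by
      have e := hL.ZA_conj_eq hxN
      rw [hxd, show L.map (MulAut.conj x).toMonoidHom = L from mem_normalizer_iff_map_conj_eq.1 (hMn hx)] at e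
      exact e.symm
    rcases B.dich h hxN with e | ⟨e, e'⟩
    · exact e.1
    exfalso
    obtain ⟨b, K, hK, hle⟩ := h.exists_terminal hA hL
    refine hL.2.2.2 (B.sup.ge.trans ?_)
    rcases B.tz_mem h hA ⟨b, K, hK, rfl⟩ with eK | eK <;> rw [eK] at hle
    · have := Subgroup.map_mono (f := (MulAut.conj x).toMonoidHom) hle
      rw [e, hfix] at this
      exact sup_le hle this
    · have := Subgroup.map_mono (f := (MulAut.conj x).toMonoidHom) hle
      rw [e', hfix] at this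
      exact sup_le this hle
  · haveI : IsEmpty {L : Subgroup G // Moved A d L} := ⟨fun L => hex ⟨L.1, L.2⟩⟩
    rw [hM, iSup_of_empty, sup_bot_eq] at hx
    have hc : ∀ y ∈ A, x * y * x⁻¹ = y := fun y hy => by
      have hy' : x * y * x⁻¹ ∈ A := (mem_normalizer_iff.1 hxN y).1 hy
      refine mul_inv_eq_one.1 (h.eq_one_core (b := d) (mul_mem hy' (inv_mem hy)) ?_)
      rw [show x * y * x⁻¹ * y⁻¹ = x * (y * x⁻¹ * y⁻¹) by group]
      exact mul_mem hx
        ((mem_normalizer_iff.1 (PTerminal.le_normalizer_core (p := 2) C (hAC hy)) x⁻¹).1 (inv_mem hx))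
    refine Subgroup.eq_of_le_of_card_ge ?_ (card_map_of_injective (MulAut.conj x).injective).ge
    rintro _ ⟨z, hz, rfl⟩
    show x * z * x⁻¹ ∈ Z
    rwa [hc z (B.tz.le hz)]

/-- Fusion into a fully centralised element keeps the action on the blocks. -/
theorem fusion_fix (hA : Local A) {v v' g : G} (hv : v ∈ (S : Subgroup G)) (hv' : v' ∈ (S : Subgroup G))
    (hg : g * v * g⁻¹ = v') (hgS : ∀ p ∈ (S : Subgroup G) ⊓ centralizer ({v} : Set G), g * p * g⁻¹ ∈ (S : Subgroup G)) :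
    Z.map (MulAut.conj v).toMonoidHom = Z ↔ Z.map (MulAut.conj v').toMonoidHom = Z := by
  have hSN := sylow_le_normalizer h.closed
  -- a fixed point of `v` in `A` goes into `A`
  have key : ∀ x ∈ A, v * x = x * v → g * x * g⁻¹ ∈ A ∧ v' * (g * x * g⁻¹) = g * x * g⁻¹ * v' := fun x hx hvx =>
    ⟨h.closed.2 x hx g (hgS x ⟨h.le hx, mem_centralizer_singleton_iff.2 hvx.symm⟩), by
      rw [← hg, _root_.conj_mul, _root_.conj_mul, hvx]⟩
  constructor
  · intro e
    by_contra ne'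
    obtain ⟨x, hx, hx1, hvx⟩ := h.exists_fixed B.tz.le (h.tz_ne_bot B.tz) hv
      (mem_normalizer_iff_map_conj_eq.2 e)
    obtain ⟨hyA, hy⟩ := key x (B.tz.le hx) hvx
    obtain ⟨n, hn, en⟩ := fusion h.closed h.comm (B.tz.le hx) hyA
    have e' := B.swap_of_not_fix h (hSN hv') ne'
    obtain ⟨-, e''⟩ := (B.dich h (hSN hv')).resolve_left fun e₀ => ne' e₀.1
    set y := g * x * g⁻¹
    have hvy : v' * y * v'⁻¹ = y := by rw [hy, mul_inv_cancel_right]
    have hy1 : y ≠ 1 := fun e₁ => hx1 (conj_eq_one_iff.1 e₁)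
    refine hy1 (mem_bot.1 (B.inf ▸ ?_))
    have hny : y ∈ Z.map (MulAut.conj n).toMonoidHom := ⟨x, hx, en⟩
    rcases B.orbit n hn with en' | en' <;> rw [en'] at hny
    · exact mem_inf.2 ⟨hny, e'.le ⟨y, hny, hvy⟩⟩
    · exact mem_inf.2 ⟨e''.le ⟨y, hny, hvy⟩, hny⟩
  · intro e'
    by_contra ne
    have e := B.swap_of_not_fix h (hSN hv) ne
    obtain ⟨-, eH⟩ := (B.dich h (hSN hv)).resolve_left fun e₀ => ne e₀.1
    obtain ⟨d, hd, hd1, hvd⟩ := h.exists_fixed le_rfl h.ne_bot hv (hSN hv)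
    obtain ⟨hd'A, hd'⟩ := key d hd hvd
    obtain ⟨n, hn, en⟩ := fusion h.closed h.comm hd hd'A
    set d' := g * d * g⁻¹ with hd'def
    have hd'1 : d' ≠ 1 := fun e₁ => hd1 (conj_eq_one_iff.1 e₁)
    set C := centralizer ({d'} : Set G) with hC
    set M := Oc d' ⊔ ⨆ L : {L : Subgroup G // Moved A d' L}, (L : Subgroup G) with hM
    have hNM : normalizer (A : Set G) ⊓ C ≤ normalizer (M : Set G) := fun y hy => by
      refine mem_normalizer_iff_map_conj_eq.2 ?_
      change M.map (MulAut.conj y).toMonoidHom = M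
      refine Subgroup.eq_of_le_of_card_ge ?_ (card_map_of_injective (MulAut.conj y).injective).ge
      have hyd : y * d' * y⁻¹ = d' := by rw [mem_centralizer_singleton_iff.1 hy.2, mul_inv_cancel_right]
      rw [hM, Subgroup.map_sup, Subgroup.map_iSup]
      refine sup_le (le_sup_of_le_left ?_) (iSup_le fun L => le_sup_of_le_right ?_)
      · exact (mem_normalizer_iff_map_conj_eq.1 (PTerminal.le_normalizer_core (p := 2) C hy.2)).le
      · exact le_iSup (fun L : {L : Subgroup G // Moved A d' L} => (L : Subgroup G))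
          ⟨L.1.map (MulAut.conj y).toMonoidHom, by simpa only [hyd] using L.2.conj hy.1⟩
    have hCM : C ≤ M ⊔ (normalizer (A : Set G) ⊓ C) := hA.generated hd'A hd'1
    have hCn : C ≤ normalizer (M : Set G) := hCM.trans (sup_le le_normalizer hNM)
    have hc : g * n⁻¹ ∈ C := mem_centralizer_singleton_iff.2 (by
      calc g * n⁻¹ * d' = g * n⁻¹ * (n * d * n⁻¹) := by rw [en]
        _ = g * d * g⁻¹ * (g * n⁻¹) := by group
        _ = _ := rfl)
    obtain ⟨n₁, hn₁, m₁, hm₁, hnm⟩ := (Cfsg.Lib.Coprime.mem_sup_of_le_normalizer' hNM).1 (hCM hc)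
    set m := n₁ * m₁ * n₁⁻¹ with hm
    have hmM : m ∈ M := (mem_normalizer_iff.1 (hNM hn₁) m₁).1 hm₁
    set w := n₁ * n * v * (n₁ * n)⁻¹ with hw
    have hwN : w ∈ normalizer (A : Set G) :=
      mul_mem (mul_mem (mul_mem hn₁.1 hn) (hSN hv)) (inv_mem (mul_mem hn₁.1 hn))
    have hw0 : n * v * n⁻¹ ∈ C := mem_centralizer_singleton_iff.2 (by
      rw [← en, _root_.conj_mul, _root_.conj_mul, hvd])
    have hwC : w ∈ C := by
      rw [hw, show n₁ * n * v * (n₁ * n)⁻¹ = n₁ * (n * v * n⁻¹) * n₁⁻¹ by group]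
      exact mul_mem (mul_mem hn₁.2 hw0) (inv_mem hn₁.2)
    have hv'w : v' = m * w * m⁻¹ := by
      rw [← hg, show g = m * (n₁ * n) by
        rw [hm, show n₁ * m₁ * n₁⁻¹ * (n₁ * n) = n₁ * m₁ * n by group, hnm, inv_mul_cancel_right], hw]
      group
    have hmem : v' * w⁻¹ ∈ M := by
      rw [hv'w, show m * w * m⁻¹ * w⁻¹ = m * (w * m⁻¹ * w⁻¹) by group]
      exact mul_mem hmM ((mem_normalizer_iff.1 (hCn hwC) m⁻¹).1 (inv_mem hmM))
    have hfix := B.layer_fix h hA hd'A hmem (mul_mem (hSN hv') (inv_mem hwN))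
    have hws : Z.map (MulAut.conj w).toMonoidHom = H := B.swap_conj h (hSN hv) (mul_mem hn₁.1 hn) e
    have hwi : Z.map (MulAut.conj w⁻¹).toMonoidHom = H := by
      refine B.swap_of_not_fix h (inv_mem hwN) fun e₀ => ?_
      have hi := map_inv_conj w⁻¹ Z
      rw [e₀, inv_inv] at hi
      exact B.not_fix_of_swap h hws hi
    rw [← map_map_conj, hwi] at hfix
    exact B.ne h (map_conj_inj (e'.trans hfix.symm))

/-- Fusion in the Sylow subgroup respects the blocks. -/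
theorem fusion_fix_all (hA : Local A) {v g : G} (hv : v ∈ (S : Subgroup G))
    (hg : g * v * g⁻¹ ∈ (S : Subgroup G)) :
    Z.map (MulAut.conj v).toMonoidHom = Z ↔ Z.map (MulAut.conj (g * v * g⁻¹)).toMonoidHom = Z := by
  obtain ⟨v', hv', hfull⟩ := exists_centralised S hv
  have hP : ∀ w : G, IsPGroup 2 ↥((S : Subgroup G) ⊓ centralizer ({w} : Set G)) := fun w =>
    S.2.to_le inf_le_left
  obtain ⟨g₁, e₁, h₁⟩ := hfull g _ (hP (g * v * g⁻¹)) inf_le_right
  obtain ⟨g₂, e₂, h₂⟩ := hfull 1 _ (hP (1 * v * 1⁻¹)) inf_le_right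
  rw [one_mul, inv_one, mul_one] at e₂
  rw [one_mul, inv_one, mul_one] at h₂
  rw [B.fusion_fix h hA hg hv' e₁ h₁, B.fusion_fix h hA hv hv' e₂ h₂]

/-- Some element of the Sylow subgroup swaps the blocks. -/
theorem exists_swap_sylow : ∃ s ∈ (S : Subgroup G), Z.map (MulAut.conj s).toMonoidHom = H := by
  haveI : Fact (Nat.Prime 2) := ⟨Nat.prime_two⟩
  obtain ⟨g, hg, e⟩ := B.exists_swap h
  set Nm := normalizer (A : Set G)
  obtain ⟨i, m, hm, hgm⟩ := Nat.exists_eq_two_pow_mul_odd (orderOf_pos g).ne'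
  have hgP : IsPGroup 2 (zpowers (⟨g ^ m, pow_mem hg m⟩ : Nm)) := by
    refine IsPGroup.of_card (n := i) ?_
    rw [Nat.card_zpowers, Subgroup.orderOf_mk,
      orderOf_pow_of_dvd (Nat.pos_iff_ne_zero.1 hm.pos) (hgm ▸ dvd_mul_left m _), hgm, Nat.mul_div_cancel _ hm.pos]
  obtain ⟨T, hT⟩ := hgP.exists_le_sylow
  obtain ⟨c, hc⟩ := MulAction.exists_smul_eq Nm T (S.subtype (sylow_le_normalizer h.closed))
  refine ⟨c * g ^ m * (c : G)⁻¹, ?_, B.swap_conj h (pow_mem hg m) c.2 (B.swap_pow h hg e hm)⟩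
  have : c * ⟨g ^ m, pow_mem hg m⟩ * c⁻¹ ∈ (S.subtype (sylow_le_normalizer h.closed) : Subgroup Nm) := by
    rw [← hc, Sylow.coe_subgroup_smul]
    exact ⟨_, hT (mem_zpowers _), rfl⟩
  exact this

theorem false (hA : Local A) : False := by
  haveI : Fact (Nat.Prime 2) := ⟨Nat.prime_two⟩
  obtain ⟨s, hs, es⟩ := B.exists_swap_sylow h
  have hSN := sylow_le_normalizer h.closed
  have hle : (S : Subgroup G) ≤ normalizer (Z : Set G) := by
    have hc : _root_.commutator G = ⊤ :=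
      (h.simple.eq_bot_or_eq_top_of_normal _ inferInstance).resolve_left fun hb => h.nonab ⟨⟨fun x y => by
        refine commutatorElement_eq_one_iff_mul_comm.mp ?_
        rw [← Subgroup.mem_bot, ← hb]
        exact Subgroup.commutator_mem_commutator (Subgroup.mem_top x) (Subgroup.mem_top y)⟩⟩
    have e := Subgroup.commutator_inf_eq_focalSubgroup S
    rw [hc, top_inf_eq] at e
    rw [e, Subgroup.focalSubgroup_def, Subgroup.closure_le]
    rintro _ ⟨hmem, v, hv, g, rfl⟩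
    refine mem_normalizer_iff_map_conj_eq.2 ?_
    change Z.map (MulAut.conj ⁅v, g⁆).toMonoidHom = Z
    have hg : g * v⁻¹ * g⁻¹ ∈ (S : Subgroup G) := by
      have := mul_mem (inv_mem hv) hmem
      rwa [commutatorElement_def, show v⁻¹ * (v * g * v⁻¹ * g⁻¹) = g * v⁻¹ * g⁻¹ by group] at this
    rw [show ⁅v, g⁆ = v * (g * v⁻¹ * g⁻¹) by rw [commutatorElement_def]; group, ← map_map_conj]
    have hiff := B.fusion_fix_all h hA (inv_mem hv) hg
    have hinv : Z.map (MulAut.conj v⁻¹).toMonoidHom = Z ↔ Z.map (MulAut.conj v).toMonoidHom = Z := by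
      constructor <;> intro e₀
      · have hi := map_inv_conj v⁻¹ Z
        rwa [e₀, inv_inv] at hi
      · have hi := map_inv_conj v Z
        rwa [e₀] at hi
    by_cases hv0 : Z.map (MulAut.conj v).toMonoidHom = Z
    · rw [hiff.1 (hinv.2 hv0), hv0]
    · rw [B.swap_of_not_fix h (hSN hg) fun e₀ => hv0 (hinv.1 (hiff.2 e₀))]
      exact (((B.dich h (hSN hv)).resolve_left fun e₀ => hv0 e₀.1)).2
  exact B.not_fix_of_swap h es (mem_normalizer_iff_map_conj_eq.1 (hle hs))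

end Blocks

/-- A component whose `Z_L` has two conjugates only does not occur. -/
theorem twoBlockSpec (G : Type u) [Group G] [Finite G] : TwoBlockSpec G :=
  fun _ A h hA a L ht H hH h1 h2 h3 h4 =>
    (⟨⟨a, L, ht, rfl⟩, hH, h1, h2, h3, h4⟩ : Blocks A (ZA A a L) H).false h hA

end Cfsg.Lib.Goldschmidt
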