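import Cfsg.Agent.Goldschmidt.Class.Main
import Cfsg.Agent.Goldschmidt.Rlin.Spec

/-!
Two blocks: the action of `N(A)` on them, and every terminal `Z_L` is one of them.
-/

set_option autoImplicit false
set_option linter.unusedSectionVars false
set_option linter.style.haveILetI false

namespace Cfsg.Lib.Goldschmidt

open Subgroup Cfsg.Lib.Components
open Cfsg.Lib.Walter (IsComp Triv Oc)

universe u

variable {G : Type u} [Group G] [Finite G] {S : Sylow 2 G} {A Z H : Subgroup G}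

/-- `A = Z × H` with both blocks of the same order and `{Z, H}` stable under `N(A)`. -/
structure Blocks (A Z H : Subgroup G) : Prop where
  tz : TZ A Z
  le : H ≤ A
  inf : Z ⊓ H = ⊥
  sup : Z ⊔ H = A
  card : Nat.card H = Nat.card Z
  orbit : ∀ g ∈ normalizer (A : Set G),
    Z.map (MulAut.conj g).toMonoidHom = Z ∨ Z.map (MulAut.conj g).toMonoidHom = H

namespace Blocks

variable (B : Blocks A Z H) (h : Min S A)
include B h

theorem ne : Z ≠ H := fun e => h.tz_ne_bot B.tz (by rw [← inf_idem Z]; nth_rw 2 [e]; exact B.inf)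

theorem exists_swap : ∃ g ∈ normalizer (A : Set G), Z.map (MulAut.conj g).toMonoidHom = H := by
  by_contra hc
  push Not at hc
  rcases h.invariant_eq B.tz.le fun g hg =>
    mem_normalizer_iff_map_conj_eq.2 ((B.orbit g hg).resolve_right (hc g hg)) with e | e
  · exact h.tz_ne_bot B.tz e
  · exact h.tz_ne_top B.tz e

theorem tzH : TZ A H := by
  obtain ⟨g, hg, e⟩ := B.exists_swap h
  exact e ▸ B.tz.conj hg

/-- `N(A)` permutes the two blocks. -/
theorem dich {g : G} (hg : g ∈ normalizer (A : Set G)) :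
    (Z.map (MulAut.conj g).toMonoidHom = Z ∧ H.map (MulAut.conj g).toMonoidHom = H) ∨
      (Z.map (MulAut.conj g).toMonoidHom = H ∧ H.map (MulAut.conj g).toMonoidHom = Z) := by
  obtain ⟨n, hn, e⟩ := B.exists_swap h
  have hgn := B.orbit (g * n) (mul_mem hg hn)
  rw [← map_map_conj, e] at hgn
  rcases B.orbit g hg with e1 | e1
  · exact .inl ⟨e1, hgn.resolve_left fun e2 => B.ne h (map_conj_inj (e1.trans e2.symm))⟩
  · exact .inr ⟨e1, hgn.resolve_right fun e2 => B.ne h (map_conj_inj (e1.trans e2.symm))⟩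

theorem swap_of_not_fix {g : G} (hg : g ∈ normalizer (A : Set G))
    (e : Z.map (MulAut.conj g).toMonoidHom ≠ Z) : Z.map (MulAut.conj g).toMonoidHom = H :=
  (B.orbit g hg).resolve_left e

theorem not_fix_of_swap {g : G} (e : Z.map (MulAut.conj g).toMonoidHom = H) :
    Z.map (MulAut.conj g).toMonoidHom ≠ Z := fun e' => B.ne h (e'.symm.trans e)

/-- An odd power of a swap is a swap. -/
theorem swap_pow {g : G} (hg : g ∈ normalizer (A : Set G)) (e : Z.map (MulAut.conj g).toMonoidHom = H) {n : ℕ}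
    (hn : Odd n) : Z.map (MulAut.conj (g ^ n)).toMonoidHom = H := by
  obtain ⟨j, rfl⟩ := hn
  induction j with
  | zero => rwa [mul_zero, zero_add, pow_one]
  | succ j ih =>
    have e' := ((B.dich h hg).resolve_left fun e' => B.ne h (e'.1.symm.trans e)).2
    rw [show 2 * (j + 1) + 1 = (2 * j + 1) + 1 + 1 by ring, pow_succ', ← map_map_conj, pow_succ', ← map_map_conj, ih,
      e', e]

/-- Elements of odd order fix the blocks. -/
theorem odd_fix {g : G} (hg : g ∈ normalizer (A : Set G)) (ho : Odd (orderOf g)) :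
    Z.map (MulAut.conj g).toMonoidHom = Z := by
  refine (B.orbit g hg).resolve_right fun e => B.ne h ?_
  have := B.swap_pow h hg e ho
  rwa [pow_orderOf_eq_one, map_conj_one] at this

/-- A conjugate of a swap is a swap. -/
theorem swap_conj {g c : G} (hg : g ∈ normalizer (A : Set G)) (hc : c ∈ normalizer (A : Set G))
    (e : Z.map (MulAut.conj g).toMonoidHom = H) : Z.map (MulAut.conj (c * g * c⁻¹)).toMonoidHom = H := by
  have e' := ((B.dich h hg).resolve_left fun e' => B.ne h (e'.1.symm.trans e)).2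
  rw [← map_map_conj, ← map_map_conj]
  rcases B.dich h (inv_mem hc) with ⟨p, q⟩ | ⟨p, q⟩ <;> rcases B.dich h hc with ⟨p', q'⟩ | ⟨p', q'⟩
  · rw [p, e, q']
  · have hi := map_inv_conj c Z
    rw [p', q] at hi
    exact absurd hi (B.ne h).symm
  · have hi := map_inv_conj c Z
    rw [p', p] at hi
    exact absurd hi (B.ne h).symm
  · rw [p, e', p']

theorem sixteen (hA : Local A) : 16 ≤ Nat.card A := by
  obtain ⟨a, L, ht, e⟩ := B.tz
  have hi := hA.index ht.1
  rw [e] at hi
  have hc := h.card_sup_inf B.tz.le B.le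
  rw [B.sup, B.inf, card_bot, mul_one, B.card] at hc
  have hq : Nat.card Z * Z.relIndex A = Nat.card A := card_mul_relIndex_le B.tz.le
  have : Z.relIndex A = Nat.card Z :=
    Nat.eq_of_mul_eq_mul_left Nat.card_pos (hq.trans hc)
  rw [hc]
  exact Nat.mul_le_mul (this ▸ hi) (this ▸ hi)

/-- Every terminal `Z_L` is one of the two blocks. -/
theorem tz_mem (hA : Local A) {X : Subgroup G} (hX : TZ A X) : X = Z ∨ X = H := by
  by_contra hne
  push Not at hne
  obtain ⟨s, hs, es⟩ := B.exists_swap h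
  have es' := ((B.dich h hs).resolve_left fun e' => B.ne h (e'.1.symm.trans es)).2
  have hXZ : Z ⊓ X = ⊥ := by
    by_contra hc
    exact hne.1 (h.tz_only hA B.tz hs (by rw [es, B.inf]) hX hc)
  have hXH : H ⊓ X = ⊥ := by
    by_contra hc
    exact hne.2 (h.tz_only hA (B.tzH h) hs (by rw [es', inf_comm, B.inf]) hX hc)
  by_cases hfix : ∀ g ∈ normalizer (A : Set G), X ⊓ X.map (MulAut.conj g).toMonoidHom ≠ ⊥
  · obtain ⟨X₁, X₂, hX₁, hX₂, n1, n2, n12, m1, m2⟩ := h.tz_two_others hA hX hfix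
    have hm12 := h.tz_trans hA hX₁ hX hX₂ (by rwa [inf_comm]) m2
    have hb := (h.tz_three hA hX₁ hX₂ hX n12 n1.symm n2.symm hm12 m1 m2).2
    have hle : ∀ Y, TZ A Y → X ⊓ Y ≠ ⊥ → Nat.card Z ≤ Y.relIndex A := by
      intro Y hY hm
      have hd : Z ⊓ Y = ⊥ := by
        by_contra hc
        exact h.tz_trans hA B.tz hY hX hc (by rwa [inf_comm]) hXZ
      have c1 := h.card_sup_inf B.tz.le hY.le
      rw [hd, card_bot, mul_one] at c1
      have l1 := c1 ▸ card_le_of_le (sup_le B.tz.le hY.le)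
      rw [← card_mul_relIndex_le hY.le, mul_comm (Nat.card Z)] at l1
      exact Nat.le_of_mul_le_mul_left l1 Nat.card_pos
    have h3 := Nat.mul_le_mul (Nat.mul_le_mul (hle X₁ hX₁ m1) (hle X₂ hX₂ m2))
      (hle X hX (by rw [inf_idem]; exact h.tz_ne_bot hX))
    have hc := h.card_sup_inf B.tz.le B.le
    rw [B.sup, B.inf, card_bot, mul_one, B.card] at hc
    have h2 : 2 ≤ Nat.card Z := (one_lt_card_iff_ne_bot _).2 (h.tz_ne_bot B.tz)
    have := h3.trans (hb.trans hc.le)
    nlinarith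
  · push Not at hfix
    obtain ⟨g, hg, e⟩ := hfix
    obtain ⟨b, K, htK, rfl⟩ := hX
    have hti : ∀ n ∈ normalizer (A : Set G), (ZA A b K).map (MulAut.conj n).toMonoidHom = ZA A b K ∨
        ZA A b K ⊓ (ZA A b K).map (MulAut.conj n).toMonoidHom = ⊥ := fun n hn =>
      (em (ZA A b K ⊓ (ZA A b K).map (MulAut.conj n).toMonoidHom = ⊥)).symm.imp_left
        fun hm => h.tz_only hA ⟨b, K, htK, rfl⟩ hg e (TZ.conj ⟨b, K, htK, rfl⟩ hn) hm
    rcases h.terminal_rlin rlinSpec hA htK hti with ⟨h8, -⟩ | ⟨H', hH', i1, i2, i3, i4⟩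
    · have := B.sixteen h hA
      omega
    have B' : Blocks A (ZA A b K) H' := ⟨⟨b, K, htK, rfl⟩, hH', i1, i2, i3, i4⟩
    obtain ⟨a, L, ht, eZ⟩ := B.tz
    obtain ⟨r, hr, hrN, hodd, htrans, hfx, -⟩ := hA.rot ht.1
    obtain ⟨v, hv, hv1⟩ := (bot_or_exists_ne_one _).resolve_left (h.tz_ne_bot ⟨b, K, htK, rfl⟩)
    have hvA : v ∈ Z ⊔ H := by rw [B.sup]; exact hv.1
    obtain ⟨y, hy, z, hz, rfl⟩ := (Cfsg.Lib.Coprime.mem_sup_of_le_normalizer' fun y hy =>
      centralizer_le_normalizer _ (mem_centralizer_iff.2 fun x hx => h.comm x (B.tz.le hx) y (B.le hy))).1 hvA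
    have hrz : r * z * r⁻¹ = z := by rw [h.fix_ZA ht.1 hr hrN (eZ.symm ▸ hz), mul_inv_cancel_right]
    have hrv : r * (y * z) * r⁻¹ ∈ ZA A b K := (B'.odd_fix h hrN hodd).le ⟨_, hv, rfl⟩
    have hrH : H.map (MulAut.conj r).toMonoidHom = H :=
      ((B.dich h hrN).resolve_right fun e' => B.ne h ((B.odd_fix h hrN hodd).symm.trans e'.1)).2
    have hry : r * y * r⁻¹ ∈ H := hrH.le ⟨y, hy, rfl⟩
    have hmem : (r * y * r⁻¹) * y⁻¹ ∈ H ⊓ ZA A b K := by
      refine mem_inf.2 ⟨mul_mem hry (inv_mem hy), ?_⟩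
      have h1 := mul_mem hrv (inv_mem hv)
      rwa [← _root_.conj_mul, hrz, show r * y * r⁻¹ * z * (y * z)⁻¹ = r * y * r⁻¹ * y⁻¹ by group] at h1
    rw [hXH, mem_bot, mul_inv_eq_one] at hmem
    have hy1 : y ≠ 1 := fun e1 => hv1 (by
      have : y * z ∈ Z ⊓ ZA A b K := ⟨by rw [e1, one_mul]; exact hz, hv⟩
      rwa [hXZ, mem_bot] at this)
    have hyZ : y ∉ ZA A a L := fun hy' => hy1 (by
      have : y ∈ Z ⊓ H := ⟨eZ ▸ hy', hy⟩
      rwa [B.inf, mem_bot] at this)
    have hall : ∀ k : ℕ, ∀ x ∈ A, r ^ k * x * (r ^ k)⁻¹ = x := by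
      intro k
      induction k with
      | zero => intro x _; simp
      | succ k ih =>
        intro x hx
        rw [pow_succ, show r ^ k * r * x * (r ^ k * r)⁻¹ = r ^ k * (r * x * r⁻¹) * (r ^ k)⁻¹ by group]
        have h1 := hfx 1 y (B.le hy) hyZ (by rwa [pow_one]) x hx
        rw [pow_one] at h1
        rw [h1]
        exact ih x hx
    -- two cosets outside `Z`
    obtain ⟨w, hw, hwZ, hyw⟩ := h.exists_third hA ht.1 (inv_mem (B.le hy))
    obtain ⟨k, hk⟩ := htrans y (B.le hy) w hw hyZ hwZ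
    rw [hall k y (B.le hy)] at hk
    exact hyw hk

end Blocks

end Cfsg.Lib.Goldschmidt
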